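import Mathlib
import Cfsg.Prelude.Def_BaumannBlocks

/-!
# Commutators, `O^p` of subgroups: elementary facts
-/

set_option autoImplicit false

namespace Cfsg.Agent.H258.Comm

open Cfsg Subgroup
open scoped commutatorElement

variable {G : Type*} [Group G]

theorem le_norm_right {H K : Subgroup G} : H ≤ normalizer (K : Set G) ↔ ⁅H, K⁆ ≤ K :=
  Subgroup.le_normalizer_iff_commutator_le_right

theorem le_norm_left {H K : Subgroup G} : H ≤ normalizer (K : Set G) ↔ ⁅K, H⁆ ≤ K :=
  Subgroup.le_normalizer_iff_commutator_le_left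

/-- Three subgroups lemma modulo a subgroup normalized by the three subgroups. -/
theorem three_mod {A B C K : Subgroup G} (hA : A ≤ normalizer (K : Set G))
    (hB : B ≤ normalizer (K : Set G)) (hC : C ≤ normalizer (K : Set G))
    (h1 : ⁅⁅B, C⁆, A⁆ ≤ K) (h2 : ⁅⁅C, A⁆, B⁆ ≤ K) : ⁅⁅A, B⁆, C⁆ ≤ K := by
  let S : Subgroup G :=
    { carrier := {g | g ∈ normalizer (K : Set G) ∧ ∀ z ∈ C, ⁅g, z⁆ ∈ K}
      one_mem' := ⟨one_mem _, fun z _ => by rw [commutatorElement_one_left]; exact one_mem _⟩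
      mul_mem' := by
        rintro a b ⟨ha, ha'⟩ ⟨hb, hb'⟩
        refine ⟨mul_mem ha hb, fun z hz => ?_⟩
        have e : ⁅a * b, z⁆ = a * ⁅b, z⁆ * a⁻¹ * ⁅a, z⁆ := by
          simp only [commutatorElement_def]; group
        rw [e]
        exact mul_mem ((mem_normalizer_iff.1 ha _).1 (hb' z hz)) (ha' z hz)
      inv_mem' := by
        rintro a ⟨ha, ha'⟩
        refine ⟨inv_mem ha, fun z hz => ?_⟩
        have e : ⁅a⁻¹, z⁆ = a⁻¹ * ⁅a, z⁆⁻¹ * a⁻¹⁻¹ := by
          simp only [commutatorElement_def]; group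
        rw [e]
        exact (mem_normalizer_iff.1 (inv_mem ha) _).1 (inv_mem (ha' z hz)) }
  have h3 : ⁅A, B⁆ ≤ S := by
    rw [commutator_le]
    intro x hx y hy
    have hxn := hA hx
    have hyn := hB hy
    refine ⟨?_, ?_⟩
    · rw [commutatorElement_def]
      exact mul_mem (mul_mem (mul_mem hxn hyn) (inv_mem hxn)) (inv_mem hyn)
    · intro z hz
      have hzn := hC hz
      have e : ⁅⁅x, y⁆, z⁆ =
          (x * (z * ⁅⁅z⁻¹, x⁻¹⁆, y⁆ * z⁻¹) * (y * ⁅⁅y⁻¹, z⁆, x⁻¹⁆ * y⁻¹) * x⁻¹)⁻¹ := by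
        simp only [commutatorElement_def]; group
      have k1 : ⁅⁅z⁻¹, x⁻¹⁆, y⁆ ∈ K := h2 (commutator_mem_commutator
        (commutator_mem_commutator (C.inv_mem hz) (A.inv_mem hx)) hy)
      have k2 : ⁅⁅y⁻¹, z⁆, x⁻¹⁆ ∈ K := h1 (commutator_mem_commutator
        (commutator_mem_commutator (B.inv_mem hy) hz) (A.inv_mem hx))
      have k3 := (mem_normalizer_iff.mp hzn _).mp k1
      have k4 := (mem_normalizer_iff.mp hyn _).mp k2
      have k5 := (mem_normalizer_iff.mp hxn _).mp (K.mul_mem k3 k4)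
      rw [e]
      refine K.inv_mem ?_
      simpa only [mul_assoc] using k5
  rw [commutator_le]
  intro x hx z hz
  exact (h3 hx).2 z hz

variable {p : ℕ}

theorem pResidualOf_le (E : Subgroup G) : pResidualOf p E ≤ E := map_subtype_le _

theorem pResidualOf_eq_closure (E : Subgroup G) :
    pResidualOf p E = closure {g : G | g ∈ E ∧ (orderOf g).Coprime p} := by
  unfold pResidualOf pResidual
  rw [MonoidHom.map_closure]
  congr 1
  ext y
  constructor
  · rintro ⟨x, hx, rfl⟩
    refine ⟨x.2, ?_⟩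
    have : orderOf (x : G) = orderOf x := orderOf_coe x
    change (orderOf (x : G)).Coprime p
    rw [this]
    exact hx
  · rintro ⟨h1, h2⟩
    refine ⟨⟨y, h1⟩, ?_, rfl⟩
    have : orderOf (y : G) = orderOf (⟨y, h1⟩ : E) := (orderOf_mk y h1).symm
    change (orderOf (⟨y, h1⟩ : E)).Coprime p
    rw [← this]
    exact h2

theorem pResidualOf_mono {E F : Subgroup G} (h : E ≤ F) : pResidualOf p E ≤ pResidualOf p F := by
  rw [pResidualOf_eq_closure, pResidualOf_eq_closure]
  exact closure_mono fun x hx => ⟨h hx.1, hx.2⟩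

/-- An element of order prime to `p` in `E N`, `N` a `p`-group normalizing `E`, lies in `E`. -/
theorem mem_of_coprime [Finite G] [Fact p.Prime] {E N : Subgroup G} (hN : IsPGroup p N)
    (hEN : N ≤ normalizer (E : Set G)) {y : G} (hy : y ∈ E ⊔ N) (ho : (orderOf y).Coprime p) :
    y ∈ E := by
  classical
  have hEle : E ⊔ N ≤ normalizer (E : Set G) := sup_le le_normalizer hEN
  obtain ⟨k, hk⟩ : ∃ k : ℕ, Nat.card N = p ^ k := IsPGroup.iff_card.1 hN
  have key : y ^ (p ^ k) ∈ E := by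
    have h1 : ∀ m : ℕ, ∀ e ∈ E, ∀ n ∈ N, ∃ e' ∈ E, (e * n) ^ m = e' * n ^ m := by
      intro m
      induction m with
      | zero => intro e he n hn; exact ⟨1, one_mem _, by simp⟩
      | succ m ih =>
        intro e he n hn
        obtain ⟨e', he', h⟩ := ih e he n hn
        refine ⟨e' * (n ^ m * e * (n ^ m)⁻¹), mul_mem he' ?_, ?_⟩
        · exact (mem_normalizer_iff.1 (hEN (pow_mem hn m)) e).1 he
        · rw [pow_succ, h, pow_succ]; group
    obtain ⟨e, he, n, hn, rfl⟩ : ∃ e ∈ E, ∃ n ∈ N, e * n = y := by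
      have h := coe_mul_of_right_le_normalizer_left E N hEN
      have hy' : y ∈ ((E ⊔ N : Subgroup G) : Set G) := hy
      rw [h] at hy'
      exact hy'
    obtain ⟨e', he', h⟩ := h1 (p ^ k) e he n hn
    have h2 : n ^ (p ^ k) = 1 := by
      rw [← hk]
      exact congrArg Subtype.val (pow_card_eq_one' (x := (⟨n, hn⟩ : N)))
    rw [h, h2, mul_one]
    exact he'
  obtain ⟨m, hm⟩ := exists_pow_eq_self_of_coprime (ho.pow_right k).symm
  rw [← hm]
  exact pow_mem key m

/-- If `O^p(K) = K ≤ E N`, `N` a `p`-group normalizing `E`, then `K ≤ E`. -/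
theorem le_of_pResidualOf_eq [Finite G] [Fact p.Prime] {E N K : Subgroup G} (hN : IsPGroup p N)
    (hEN : N ≤ normalizer (E : Set G)) (hK : pResidualOf p K = K) (h : K ≤ E ⊔ N) : K ≤ E := by
  rw [← hK, pResidualOf_eq_closure, closure_le]
  intro y hy
  exact mem_of_coprime hN hEN (h hy.1) hy.2

theorem pResidualOf_map_conj (g : G) (E : Subgroup G) :
    pResidualOf p (E.map (MulAut.conj g).toMonoidHom) =
      (pResidualOf p E).map (MulAut.conj g).toMonoidHom := by
  rw [pResidualOf_eq_closure, pResidualOf_eq_closure, MonoidHom.map_closure]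
  congr 1
  ext y
  constructor
  · rintro ⟨⟨x, hx, rfl⟩, h⟩
    exact ⟨x, ⟨hx, by rwa [MulEquiv.toMonoidHom_eq_coe, MonoidHom.coe_coe,
      MulEquiv.orderOf_eq] at h⟩, rfl⟩
  · rintro ⟨x, ⟨hx, h⟩, rfl⟩
    exact ⟨⟨x, hx, rfl⟩, by rwa [MulEquiv.toMonoidHom_eq_coe, MonoidHom.coe_coe,
      MulEquiv.orderOf_eq]⟩

/-- Normalizers grow in `p`-groups. -/
theorem lt_inf_normalizer [Finite G] [Fact p.Prime] {T S : Subgroup G} (hS : IsPGroup p S)
    (h : T < S) : T < S ⊓ normalizer (T : Set G) := by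
  have hnil : Group.IsNilpotent S := hS.isNilpotent
  have hlt : T.subgroupOf S < ⊤ := by
    rw [lt_top_iff_ne_top]
    intro h1
    rw [Subgroup.subgroupOf_eq_top] at h1
    exact h.not_ge h1
  have h2 := (Group.normalizerCondition_of_isNilpotent (G := S)) (T.subgroupOf S) hlt
  refine lt_of_le_of_ne (le_inf h.le le_normalizer) ?_
  intro h3
  apply h2.ne
  apply le_antisymm le_normalizer
  intro s hs
  rw [mem_subgroupOf, h3]
  refine ⟨s.2, ?_⟩
  rw [mem_normalizer_iff] at hs
  refine mem_normalizer_iff.2 ?_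
  intro x
  constructor
  · intro hx
    exact (hs ⟨x, h.le hx⟩).1 hx
  · intro hx
    have hxS : x ∈ S := by
      have h4 : (s : G)⁻¹ * (s * x * (s : G)⁻¹) * s ∈ S :=
        mul_mem (mul_mem (inv_mem s.2) (h.le hx)) s.2
      have e : (s : G)⁻¹ * (s * x * (s : G)⁻¹) * s = x := by group
      rwa [e] at h4
    exact (hs ⟨x, hxS⟩).2 hx

theorem mem_normalizer_of_map_le [Finite G] {E : Subgroup G} {x : G}
    (h : E.map (MulAut.conj x).toMonoidHom ≤ E) : x ∈ normalizer (E : Set G) := by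
  have h1 : Nat.card (E.map (MulAut.conj x).toMonoidHom) = Nat.card E :=
    (Nat.card_congr (E.equivMapOfInjective _ (MulAut.conj x).injective).toEquiv).symm
  have h2 := Subgroup.eq_of_le_of_card_ge h h1.ge
  rw [mem_normalizer_iff]
  intro y
  constructor
  · intro hy
    rw [← SetLike.mem_coe, ← h2]
    exact ⟨y, hy, rfl⟩
  · intro hy
    rw [← h2] at hy
    obtain ⟨z, hz, hzy⟩ := hy
    have : z = y := by
      have h3 : x * z * x⁻¹ = x * y * x⁻¹ := hzy
      simpa using h3
    rwa [← this]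

/-- The key argument for S2983: `E = O^p(E) = [E, B]` and the `p`-group `Q` is normalized by `E` and `B`,
with `[Q, B]` normalizing `E`. Then `Q` normalizes `E`. -/
theorem le_normalizer_of_commutator [Finite G] [Fact p.Prime] {E B Q : Subgroup G}
    (hE : pResidualOf p E = E) (hEB : ⁅E, B⁆ = E) (hQ : IsPGroup p Q)
    (hBQ : B ≤ normalizer (Q : Set G)) (hEQ : E ≤ normalizer (Q : Set G))
    (hc : ⁅Q, B⁆ ≤ normalizer (E : Set G)) : Q ≤ normalizer (E : Set G) := by
  set N : Subgroup G := Q ⊓ normalizer (E : Set G) with hN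
  have hBE : B ≤ normalizer (E : Set G) := by rw [le_norm_left, hEB]
  have hEN : E ≤ normalizer (N : Set G) := by
    intro e he
    rw [mem_normalizer_iff]
    intro x
    rw [hN, mem_inf, mem_inf, ← mem_normalizer_iff.1 (hEQ he) x]
    refine and_congr_right fun _ => ?_
    exact mem_normalizer_iff.1 (le_normalizer (le_normalizer he)) x
  have hBN : B ≤ normalizer (N : Set G) := by
    intro e he
    rw [mem_normalizer_iff]
    intro x
    rw [hN, mem_inf, mem_inf, ← mem_normalizer_iff.1 (hBQ he) x]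
    refine and_congr_right fun _ => ?_
    exact mem_normalizer_iff.1 (le_normalizer (hBE he)) x
  have hQB : ⁅Q, B⁆ ≤ N := le_inf (le_norm_left.1 hBQ) hc
  by_contra hne
  have hlt : N < Q := lt_of_le_of_ne inf_le_left fun h => hne (h.symm.le.trans inf_le_right)
  -- the normalizer of `N` in `Q`
  set N1 : Subgroup G := Q ⊓ normalizer (N : Set G) with hN1
  have hNN1 : N < N1 := lt_inf_normalizer hQ hlt
  have hEN1 : E ≤ normalizer (N1 : Set G) := by
    intro e he
    rw [mem_normalizer_iff]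
    intro x
    rw [hN1, mem_inf, mem_inf, ← mem_normalizer_iff.1 (hEQ he) x]
    refine and_congr_right fun _ => ?_
    exact mem_normalizer_iff.1 (le_normalizer (hEN he)) x
  have hBN1 : B ≤ normalizer (N1 : Set G) := by
    intro e he
    rw [mem_normalizer_iff]
    intro x
    rw [hN1, mem_inf, mem_inf, ← mem_normalizer_iff.1 (hBQ he) x]
    refine and_congr_right fun _ => ?_
    exact mem_normalizer_iff.1 (le_normalizer (hBN he)) x
  have hN1N : N1 ≤ normalizer (N : Set G) := inf_le_right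
  -- `[E, N1] ≤ N`
  have h1 : ⁅⁅E, B⁆, N1⁆ ≤ N := by
    refine three_mod hEN hBN hN1N ?_ ?_
    · have : ⁅B, N1⁆ ≤ N := by
        rw [commutator_comm]
        exact (commutator_mono inf_le_left le_rfl).trans hQB
      exact (commutator_mono this le_rfl).trans (le_norm_left.1 hEN)
    · have : ⁅N1, E⁆ ≤ Q := (commutator_mono inf_le_left le_rfl).trans (le_norm_left.1 hEQ)
      exact (commutator_mono this le_rfl).trans hQB
  rw [hEB] at h1
  apply hNN1.not_ge
  intro x hx
  refine ⟨hx.1, ?_⟩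
  -- `E ^ x ≤ E N`
  have h2 : E.map (MulAut.conj x).toMonoidHom ≤ E ⊔ N := by
    rintro _ ⟨e, he, rfl⟩
    change x * e * x⁻¹ ∈ _
    have e1 : x * e * x⁻¹ = e * ⁅e⁻¹, x⁆ := by simp only [commutatorElement_def]; group
    rw [e1]
    exact mul_mem_sup he (h1 (commutator_mem_commutator (inv_mem he) hx))
  have h3 : E.map (MulAut.conj x).toMonoidHom ≤ E := by
    refine le_of_pResidualOf_eq (hQ.to_le inf_le_left) inf_le_right ?_ h2
    rw [pResidualOf_map_conj, hE]
  exact mem_normalizer_of_map_le h3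

end Cfsg.Agent.H258.Comm
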