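import Cfsg.Agent.H864.RootTri

/-!
# Elementary abelian 2-groups of semilinear maps of `F²` (for S2980)
-/

set_option autoImplicit false
set_option linter.unusedSectionVars false
set_option linter.unusedVariables false

namespace Cfsg.Agent.H258.SemiCard

open Subgroup Cfsg.Agent.H864.RootG Cfsg.Agent.H250.Root

universe u' v' w

section Core

variable {F : Type} [Field F] [Fintype F]

theorem char_two (hq : ∃ k, Fintype.card F = 2 ^ k) : (2 : F) = 0 := by
  obtain ⟨k, hk⟩ := hq
  have h1 : ((Fintype.card F : ℕ) : F) = 0 := Nat.cast_card_eq_zero F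
  rw [hk] at h1
  push_cast at h1
  exact eq_zero_of_pow_eq_zero h1

/-- multiples of a vector -/
theorem card_line (d : Fin 2 → F) (hd : d ≠ 0) (Fx : AddSubgroup (Fin 2 → F)) (h : ∀ x ∈ Fx, ∃ k : F, x = k • d) :
    Nat.card Fx ≤ Fintype.card F := by
  choose f hf using h
  have h1 : Function.Injective (fun x : Fx => f x x.2) := by
    intro x y e
    have e' : f x x.2 = f y y.2 := e
    exact Subtype.ext ((hf x x.2).trans ((congrArg (fun k => k • d) e').trans (hf y y.2).symm))
  have h2 := Nat.card_le_card_of_injective _ h1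
  rwa [Nat.card_eq_fintype_card (α := F)] at h2

theorem exists_coords {x1 d : Fin 2 → F} (h : ∀ k : F, x1 ≠ k • d) (hd : d ≠ 0) (x : Fin 2 → F) :
    ∃ a b : F, x = a • x1 + b • d := by
  have hdt : dt x1 d ≠ 0 := by
    intro e
    obtain ⟨k, hk⟩ := exists_smul_of_dt hd e
    exact h k hk
  refine ⟨dt x d / dt x1 d, - dt x x1 / dt x1 d, ?_⟩
  funext i
  simp only [Pi.add_apply, Pi.smul_apply, smul_eq_mul]
  field_simp
  unfold dt
  fin_cases i
  · change x 0 * (x1 0 * d 1 - x1 1 * d 0) = (x 0 * d 1 - x 1 * d 0) * x1 0 + -((x 0 * x1 1 - x 1 * x1 0) * d 0)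
    ring
  · change x 1 * (x1 0 * d 1 - x1 1 * d 0) = (x 0 * d 1 - x 1 * d 0) * x1 1 + -((x 0 * x1 1 - x 1 * x1 0) * d 1)
    ring

theorem coords_unique {x1 d : Fin 2 → F} (h : ∀ k : F, x1 ≠ k • d) (hd : d ≠ 0) {a b a' b' : F}
    (e : a • x1 + b • d = a' • x1 + b' • d) : a = a' ∧ b = b' := by
  have h1 : a = a' := by
    by_contra hne
    have h2 : (a - a') ≠ 0 := sub_ne_zero.2 hne
    apply h ((a - a')⁻¹ * (b' - b))
    have h3 : (a - a') • x1 = (b' - b) • d := by
      rw [sub_smul, sub_smul]
      have := e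
      rw [← sub_eq_zero] at this ⊢
      rw [← this]; abel
    rw [mul_smul, ← h3, smul_smul, inv_mul_cancel₀ h2, one_smul]
  subst h1
  refine ⟨rfl, ?_⟩
  have h2 : b • d = b' • d := add_left_cancel e
  exact smul_left_injective F hd h2

/-- a proper additive subgroup -/
theorem two_mul_le {W : Type*} [AddGroup W] [Finite W] {A B : AddSubgroup W} (h : A ≤ B) (hne : ∃ x ∈ B, x ∉ A) :
    2 * Nat.card A ≤ Nat.card B := by
  have h1 := AddSubgroup.card_dvd_of_le h
  obtain ⟨k, hk⟩ := h1
  have h2 : Nat.card A < Nat.card B := by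
    refine lt_of_le_of_ne (Nat.card_le_card_of_injective (AddSubgroup.inclusion h) (AddSubgroup.inclusion_injective h)) ?_
    intro e
    obtain ⟨x, hx, hxA⟩ := hne
    have h3 : A = B := AddSubgroup.eq_of_le_of_card_ge h e.ge
    exact hxA (h3 ▸ hx)
  rw [hk] at h2 ⊢
  have h3 : 0 < Nat.card A := Nat.card_pos
  have h4 : 2 ≤ k := by
    by_contra hcon
    have : k ≤ 1 := by omega
    have : Nat.card A * k ≤ Nat.card A * 1 := Nat.mul_le_mul_left _ this
    omega
  calc 2 * Nat.card A = Nat.card A * 2 := mul_comm _ _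
    _ ≤ _ := Nat.mul_le_mul_left _ h4

/-- the purely linear statement -/
theorem core (hq : ∃ k, Fintype.card F = 2 ^ k) {A : Type w} [Group A] [Finite A] (T : A → (Fin 2 → F) → (Fin 2 → F))
    (σ : A → (F ≃+* F)) (hadd : ∀ a x y, T a (x + y) = T a x + T a y) (hsm : ∀ a (k : F) x, T a (k • x) = σ a k • T a x)
    (hmul : ∀ a b x, T (a * b) x = T a (T b x)) (hone : ∀ x, T 1 x = x) (hinj : ∀ a, (∀ x, T a x = x) → a = 1)
    (hc : ∀ a b : A, a * b = b * a) (h2 : ∀ a : A, a * a = 1) (hA2 : Nat.card A ≤ 2 * Nat.card {a : A // σ a = 1})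
    (Fx : AddSubgroup (Fin 2 → F)) (hFx : ∀ x, x ∈ Fx ↔ ∀ a, T a x = x) :
    Nat.card A * Nat.card Fx ≤ Fintype.card F * Fintype.card F := by
  classical
  have h20 : (2 : F) = 0 := char_two hq
  have hneg : ∀ x : Fin 2 → F, x + x = 0 := by
    intro x
    rw [← two_smul F x, h20, zero_smul]
  have hsq1 : ∀ k : F, k * k = 1 → k = 1 := by
    intro k hk
    have h1 : (k - 1) * (k - 1) = 0 := by
      have h2' : (k - 1) * (k - 1) = k * k - 2 * k + 1 := by ring
      rw [h2', hk, h20]; ring_nf
      have : (2 : F) = 0 := h20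
      exact this
    have := mul_self_eq_zero.1 h1
    exact sub_eq_zero.1 this
  have hW : Nat.card (Fin 2 → F) = Fintype.card F * Fintype.card F := by
    rw [Nat.card_fun, Nat.card_eq_fintype_card (α := Fin 2), Fintype.card_fin, pow_two, Nat.card_eq_fintype_card]
  have hFxW : Nat.card Fx ≤ Fintype.card F * Fintype.card F := by
    rw [← hW]; exact Nat.card_le_card_of_injective _ Subtype.val_injective
  by_cases h0 : ∀ a : A, σ a = 1 → a = 1
  · -- `A₀ = 1`
    have h1 : Nat.card {a : A // σ a = 1} ≤ 1 := by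
      rw [Finite.card_le_one_iff_subsingleton]
      exact ⟨fun a b => Subtype.ext ((h0 a a.2).trans (h0 b b.2).symm)⟩
    by_cases h3 : ∀ a : A, a = 1
    · have h4 : Nat.card A ≤ 1 := by
        rw [Finite.card_le_one_iff_subsingleton]
        exact ⟨fun a b => (h3 a).trans (h3 b).symm⟩
      calc Nat.card A * Nat.card Fx ≤ 1 * Nat.card Fx := Nat.mul_le_mul_right _ h4
        _ ≤ _ := by rw [one_mul]; exact hFxW
    · push Not at h3
      obtain ⟨a, ha⟩ := h3
      have h4 : ∃ x, T a x ≠ x := by
        by_contra hcon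
        push Not at hcon
        exact ha (hinj a hcon)
      obtain ⟨x, hx⟩ := h4
      have h5 : 2 * Nat.card Fx ≤ Nat.card (⊤ : AddSubgroup (Fin 2 → F)) :=
        two_mul_le le_top ⟨x, AddSubgroup.mem_top x, fun h => hx ((hFx x).1 h a)⟩
      have h6 : Nat.card (⊤ : AddSubgroup (Fin 2 → F)) = Fintype.card F * Fintype.card F := by
        rw [← hW]; exact Nat.card_congr (Equiv.Set.univ _)
      calc Nat.card A * Nat.card Fx ≤ 2 * Nat.card Fx := Nat.mul_le_mul_right _ (by omega)
        _ ≤ _ := by rw [← h6]; exact h5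
  · push Not at h0
    obtain ⟨a, haσ, ha1⟩ := h0
    obtain ⟨x1, hx1⟩ : ∃ x, T a x ≠ x := by
      by_contra hcon
      push Not at hcon
      exact ha1 (hinj a hcon)
    set d := T a x1 + x1 with hd
    have hd0 : d ≠ 0 := by
      intro e
      apply hx1
      have h3 : T a x1 + x1 + x1 = x1 := by rw [← hd, e, zero_add]
      rwa [add_assoc, hneg, add_zero] at h3
    have hTa : T a x1 = x1 + d := by
      rw [hd, add_comm x1, add_assoc, hneg, add_zero]
    have haa : ∀ x, T a (T a x) = x := fun x => by rw [← hmul, h2, hone]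
    have hTd : T a d = d := by
      rw [hd, hadd, haa, add_comm]
    have hlin : ∀ b, σ b = 1 → ∀ (k : F) x, T b (k • x) = k • T b x := by
      intro b hb k x
      rw [hsm, hb]; rfl
    have hx1d : ∀ k : F, x1 ≠ k • d := by
      intro k e
      apply hx1
      conv_lhs => rw [e, hlin a haσ, hTd]
      exact e.symm
    have hfix : ∀ x, T a x = x → ∃ k : F, x = k • d := by
      intro x hx
      obtain ⟨α, β, rfl⟩ := exists_coords hx1d hd0 x
      rw [hadd, hlin a haσ, hlin a haσ, hTa, hTd, smul_add] at hx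
      have h3 : α • x1 + (α + β) • d = α • x1 + β • d := by
        rw [add_smul, ← add_assoc]; exact hx
      have h4 := (coords_unique hx1d hd0 h3).2
      have h5 : α = 0 := by
        have := congrArg (fun t => t - β) h4
        simpa using this
      exact ⟨β, by rw [h5, zero_smul, zero_add]⟩
    have hinv : ∀ b, ∃ k : F, T b d = k • d := by
      intro b
      apply hfix
      rw [← hmul, hc a b, hmul, hTd]
    -- `A₀`
    have hA0 : ∀ b, σ b = 1 → T b d = d ∧ ∃ ν : F, T b x1 = x1 + ν • d := by
      intro b hb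
      have hbb : ∀ x, T b (T b x) = x := fun x => by rw [← hmul, h2, hone]
      obtain ⟨k, hk⟩ := hinv b
      have h3 := hbb d
      rw [hk, hlin b hb, hk, smul_smul] at h3
      have h4 : k * k = 1 := by
        have h5 : (k * k) • d = (1 : F) • d := by rw [h3, one_smul]
        exact smul_left_injective F hd0 h5
      have h5 := hsq1 k h4
      have hbd : T b d = d := by rw [hk, h5, one_smul]
      refine ⟨hbd, ?_⟩
      obtain ⟨μ, ν, hμ⟩ := exists_coords hx1d hd0 (T b x1)
      have h6 := hbb x1
      rw [hμ, hadd, hlin b hb, hlin b hb, hμ, hbd, smul_add, smul_smul, smul_smul, add_assoc, ← add_smul] at h6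
      have h7 : (μ * μ) • x1 + (μ * ν + ν) • d = (1 : F) • x1 + (0 : F) • d := by
        rw [h6, one_smul, zero_smul, add_zero]
      have h8 := hsq1 μ (coords_unique hx1d hd0 h7).1
      exact ⟨ν, by rw [hμ, h8, one_smul]⟩
    have hcard0 : Nat.card {a : A // σ a = 1} ≤ Fintype.card F := by
      have hch : ∀ b : {a : A // σ a = 1}, ∃ ν : F, T b x1 = x1 + ν • d := fun b => (hA0 b b.2).2
      choose f hf using hch
      have hfi : Function.Injective f := by
        intro b b' e
        have h3 : ∀ x, T b.1 x = T b'.1 x := by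
          intro x
          obtain ⟨α, β, rfl⟩ := exists_coords hx1d hd0 x
          rw [hadd, hadd, hlin _ b.2, hlin _ b.2, hlin _ b'.2, hlin _ b'.2, hf b, hf b', e, (hA0 b b.2).1, (hA0 b' b'.2).1]
        have h4 : ∀ x, T (b.1 * b'.1) x = x := by
          intro x
          rw [hmul, h3, ← hmul, h2, hone]
        have h5 := hinj _ h4
        apply Subtype.ext
        have h6 : b.1 * b'.1 = b'.1 * b'.1 := by rw [h5, h2]
        exact mul_right_cancel h6
      have h3 := Nat.card_le_card_of_injective _ hfi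
      rwa [Nat.card_eq_fintype_card (α := F)] at h3
    have hFxl : ∀ x ∈ Fx, ∃ k : F, x = k • d := fun x hx => hfix x ((hFx x).1 hx a)
    by_cases hall : ∀ b : A, σ b = 1
    · have h3 : Nat.card A ≤ Fintype.card F := by
        refine le_trans ?_ hcard0
        exact Nat.card_le_card_of_injective (fun b : A => (⟨b, hall b⟩ : {a : A // σ a = 1})) fun b b' e => congrArg Subtype.val e
      exact Nat.mul_le_mul h3 (card_line d hd0 Fx hFxl)
    · push Not at hall
      obtain ⟨t, ht⟩ := hall
      obtain ⟨k, hk⟩ : ∃ k, σ t k ≠ k := by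
        by_contra hcon
        push Not at hcon
        exact ht (RingEquiv.ext hcon)
      -- the line
      let l : AddSubgroup (Fin 2 → F) :=
        { carrier := {x | ∃ k : F, x = k • d}
          zero_mem' := ⟨0, by rw [zero_smul]⟩
          add_mem' := by
            rintro _ _ ⟨a, rfl⟩ ⟨b, rfl⟩
            exact ⟨a + b, by rw [add_smul]⟩
          neg_mem' := by
            rintro _ ⟨a, rfl⟩
            exact ⟨-a, by rw [neg_smul]⟩ }
      have hFl : Fx ≤ l := fun x hx => hFxl x hx
      have hne : ∃ x ∈ l, x ∉ Fx := by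
        by_cases hdF : d ∈ Fx
        · refine ⟨k • d, ⟨k, rfl⟩, fun h => hk ?_⟩
          have h3 := (hFx _).1 h t
          rw [hsm, (hFx _).1 hdF t] at h3
          exact smul_left_injective F hd0 h3
        · exact ⟨d, ⟨1, by rw [one_smul]⟩, hdF⟩
      have h3 := two_mul_le hFl hne
      have h4 : Nat.card l ≤ Fintype.card F := card_line d hd0 l fun x hx => hx
      calc Nat.card A * Nat.card Fx ≤ (2 * Fintype.card F) * Nat.card Fx := by
            refine Nat.mul_le_mul_right _ (hA2.trans ?_)
            exact Nat.mul_le_mul_left _ hcard0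
        _ = Fintype.card F * (2 * Nat.card Fx) := by ring
        _ ≤ _ := Nat.mul_le_mul_left _ (h3.trans h4)

/-- the fixed points of a semilinear map do not have index two -/
theorem core_index (hq : ∃ k, Fintype.card F = 2 ^ k) (hq4 : 4 ≤ Fintype.card F) (T : (Fin 2 → F) → (Fin 2 → F))
    (σ : F ≃+* F) (hadd : ∀ x y, T (x + y) = T x + T y) (hsm : ∀ (k : F) x, T (k • x) = σ k • T x)
    (Fx : AddSubgroup (Fin 2 → F)) (hFx : ∀ x, x ∈ Fx ↔ T x = x) :
    Nat.card Fx * 2 ≠ Fintype.card F * Fintype.card F := by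
  classical
  intro hidx
  have hW : Nat.card (Fin 2 → F) = Fintype.card F * Fintype.card F := by
    rw [Nat.card_fun, Nat.card_eq_fintype_card (α := Fin 2), Fintype.card_fin, pow_two, Nat.card_eq_fintype_card]
  have hcm : Nat.card Fx * Fx.index = Fintype.card F * Fintype.card F := by
    rw [AddSubgroup.card_mul_index, hW]
  have hi2 : Fx.index = 2 := by
    rw [← hidx] at hcm
    exact Nat.eq_of_mul_eq_mul_left Nat.card_pos hcm
  by_cases hσ : ∀ k, σ k = k
  · -- linear
    have hsmul : ∀ (k : F) x, x ∈ Fx → k • x ∈ Fx := by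
      intro k x hx
      rw [hFx] at hx ⊢
      rw [hsm, hσ, hx]
    obtain ⟨w, hw⟩ : ∃ w, w ∉ Fx := by
      by_contra hcon
      push Not at hcon
      have : Fx = ⊤ := eq_top_iff.2 fun x _ => hcon x
      rw [this, AddSubgroup.index_top] at hi2
      omega
    obtain ⟨k, hk0, hk1⟩ : ∃ k : F, k ≠ 0 ∧ k ≠ 1 := by
      by_contra hcon
      push Not at hcon
      have h1 : (Finset.univ : Finset F) ⊆ {0, 1} := by
        intro x _
        rw [Finset.mem_insert, Finset.mem_singleton]
        by_cases h2 : x = 0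
        · exact Or.inl h2
        · exact Or.inr (hcon x h2)
      have h2 := Finset.card_le_card h1
      rw [Finset.card_univ] at h2
      have h3 := Finset.card_le_two (a := (0 : F)) (b := 1)
      omega
    have h1 : k • w ∉ Fx := by
      intro h
      apply hw
      have := hsmul k⁻¹ _ h
      rwa [smul_smul, inv_mul_cancel₀ hk0, one_smul] at this
    have h2 : k • w + w ∈ Fx := by
      rw [AddSubgroup.add_mem_iff_of_index_two hi2]
      exact iff_of_false h1 hw
    have h3 : (k + 1) • w ∈ Fx := by rw [add_smul, one_smul]; exact h2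
    have h4 : k + 1 ≠ 0 := by
      intro e
      apply hk1
      have h20 := char_two hq
      have h5 : k + 1 + 1 = 1 := by rw [e, zero_add]
      have h6 : (1 : F) + 1 = 0 := by rw [one_add_one_eq_two, h20]
      rwa [add_assoc, h6, add_zero] at h5
    apply hw
    have := hsmul (k + 1)⁻¹ _ h3
    rwa [smul_smul, inv_mul_cancel₀ h4, one_smul] at this
  · push Not at hσ
    obtain ⟨k, hk⟩ := hσ
    have hinj : Function.Injective (fun z : Fx × Fx => (z.1 : Fin 2 → F) + k • (z.2 : Fin 2 → F)) := by
      rintro ⟨a, b⟩ ⟨a', b'⟩ e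
      have e' : (a : Fin 2 → F) + k • (b : Fin 2 → F) = a' + k • (b' : Fin 2 → F) := e
      have h1 : (a - a' : Fin 2 → F) = k • (b' - b : Fin 2 → F) := by
        rw [smul_sub, sub_eq_sub_iff_add_eq_add, e']
        exact add_comm _ _
      have h2 : T (a - a') = (a - a' : Fin 2 → F) := (hFx _).1 (Fx.sub_mem a.2 a'.2)
      have h3 : T (b' - b) = (b' - b : Fin 2 → F) := (hFx _).1 (Fx.sub_mem b'.2 b.2)
      have h4 : σ k • (b' - b : Fin 2 → F) = k • (b' - b : Fin 2 → F) := by
        rw [← h1, ← h2, h1, hsm, h3]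
      have h5 : (b' - b : Fin 2 → F) = 0 := by
        by_contra hne
        exact hk (smul_left_injective F hne h4)
      rw [h5, smul_zero] at h1
      have h6 : a = a' := Subtype.ext (sub_eq_zero.1 h1)
      have h7 : b = b' := Subtype.ext (sub_eq_zero.1 h5).symm
      rw [h6, h7]
    have h1 := Nat.card_le_card_of_injective _ hinj
    rw [Nat.card_prod, hW] at h1
    set N := Nat.card Fx with hN
    set q := Fintype.card F with hqd
    have h2 : q * q ≥ 16 := by nlinarith
    nlinarith

end Core

section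

variable {X : Type u'} [Group X] {V : Type v'} [Group V] [MulDistribMulAction X V] [Finite V] {F : Type} [Field F] [Fintype F]
  {L : Subgroup X}

/-- the action of `N(L)` on `F²` -/
noncomputable def T (c : Co V F L) (y : X) (x : Fin 2 → F) : Fin 2 → F := c.m (y • (c.m_surj x).choose)

theorem T_spec (c : Co V F L) {y : X} (hy : y ∈ normalizer (L : Set X)) (v : V) : c.m (y • v) = T c y (c.m v) :=
  c.m_smul_congr hy (c.m_surj (c.m v)).choose_spec.symm

theorem T_add (c : Co V F L) {y : X} (hy : y ∈ normalizer (L : Set X)) (a b : Fin 2 → F) : T c y (a + b) = T c y a + T c y b := by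
  obtain ⟨v, rfl⟩ := c.m_surj a
  obtain ⟨w, rfl⟩ := c.m_surj b
  rw [← c.m_mul, ← T_spec c hy, ← T_spec c hy, ← T_spec c hy, smul_mul', c.m_mul]

theorem T_smul (c : Co V F L) {y : X} (hy : y ∈ normalizer (L : Set X)) {σ : F ≃+* F} (hσ : c.Semi y σ) (k : F) (a : Fin 2 → F) :
    T c y (k • a) = σ k • T c y a := by
  obtain ⟨v, rfl⟩ := c.m_surj a
  obtain ⟨w, hw⟩ := c.m_surj (k • c.m v)
  rw [← hw, ← T_spec c hy, ← T_spec c hy]
  exact hσ k v w hw

theorem T_mul (c : Co V F L) {y z : X} (hy : y ∈ normalizer (L : Set X)) (hz : z ∈ normalizer (L : Set X)) (a : Fin 2 → F) :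
    T c (y * z) a = T c y (T c z a) := by
  obtain ⟨v, rfl⟩ := c.m_surj a
  rw [← T_spec c hz, ← T_spec c hy, ← T_spec c (mul_mem hy hz), mul_smul]

theorem T_one (c : Co V F L) (a : Fin 2 → F) : T c (1 : X) a = a := by
  obtain ⟨v, rfl⟩ := c.m_surj a
  rw [← T_spec c (one_mem _), one_smul]

/-- the index of the preimage of a subgroup of `F²` -/
theorem index_eq (c : Co V F L) (Fx : AddSubgroup (Fin 2 → F)) (C : Subgroup V) (hC : ∀ v, v ∈ C ↔ c.m v ∈ Fx) :
    Nat.card Fx * C.index = Fintype.card F * Fintype.card F := by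
  let U' : Subgroup (Multiplicative (Fin 2 → F)) := AddSubgroup.toSubgroup Fx
  have h1 : C = U'.comap c.ψ := by
    ext v
    exact hC v
  rw [h1, Subgroup.index_comap_of_surjective _ c.surj]
  have h7 : Nat.card U' = Nat.card Fx := rfl
  rw [← h7, Subgroup.card_mul_index]
  have : Nat.card (Multiplicative (Fin 2 → F)) = Nat.card (Fin 2 → F) := rfl
  rw [this, Nat.card_fun, Nat.card_eq_fintype_card (α := Fin 2), Fintype.card_fin, pow_two, Nat.card_eq_fintype_card]

/-- `|A| ≤ |M : C_M(A)|` for an elementary abelian 2-group of semilinear maps -/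
theorem semi_card_le (hV : ∀ v w : V, v * w = w * v) (hq : ∃ k, Fintype.card F = 2 ^ k) (c : Co V F L) {A : Subgroup X}
    (hA : A ≤ normalizer (L : Set X)) (hc : ∀ a ∈ A, ∀ b ∈ A, a * b = b * a) (h2 : ∀ a ∈ A, a * a = 1)
    (hf : ∀ a ∈ A, (∀ v : V, c.m (a • v) = c.m v) → a = 1) (C : Subgroup V)
    (hC : ∀ v, v ∈ C ↔ ∀ a ∈ A, c.m (a • v) = c.m v) : Nat.card A ≤ C.index := by
  classical
  have hsem : ∀ y : ↥A, ∃ σ : F ≃+* F, c.Semi (y : X) σ := fun y => c.exists_semi (hA y.2)
  choose f hf' using hsem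
  have hmulf : ∀ y z, f (y * z) = f y * f z := fun y z => (hf' (y * z)).unique ((hf' y).mul (hf' z))
  let g : ↥A →* (F ≃+* F) := MonoidHom.mk' f hmulf
  -- `A` is finite
  have hAfin : Finite ↥A := by
    refine Finite.of_injective (fun a : ↥A => fun x : Fin 2 → F => T c (a : X) x) ?_
    intro a b e
    have h3 : ∀ x, T c ((a : X) * b) x = x := by
      intro x
      rw [T_mul c (hA a.2) (hA b.2)]
      have h4 : T c (a : X) (T c (b : X) x) = T c (b : X) (T c (b : X) x) := congrFun e _
      rw [h4, ← T_mul c (hA b.2) (hA b.2), h2 b b.2, T_one]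
    have h4 : (a : X) * b = 1 := by
      apply hf _ (mul_mem a.2 b.2)
      intro v
      rw [T_spec c (hA (mul_mem a.2 b.2)), h3]
    apply Subtype.ext
    have h5 : (a : X) * b = b * b := by rw [h4, h2 b b.2]
    exact mul_right_cancel h5
  let Fx : AddSubgroup (Fin 2 → F) :=
    { carrier := {x | ∀ a : ↥A, T c (a : X) x = x}
      zero_mem' := by
        intro a
        have h3 := T_add c (hA a.2) 0 0
        rw [add_zero] at h3
        simpa using h3
      add_mem' := by
        intro x y hx hy a
        rw [T_add c (hA a.2), hx a, hy a]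
      neg_mem' := by
        intro x hx a
        have h3 := T_add c (hA a.2) x (-x)
        rw [add_neg_cancel, hx a] at h3
        have h4 := T_add c (hA a.2) 0 0
        rw [add_zero] at h4
        have h5 : T c (a : X) 0 = 0 := by simpa using h4
        rw [h5] at h3
        exact (neg_eq_of_add_eq_zero_right h3.symm).symm }
  have hFx : ∀ x, x ∈ Fx ↔ ∀ a : ↥A, T c (a : X) x = x := fun x => Iff.rfl
  have hidx := index_eq c Fx C (fun v => by
    rw [hC, hFx]
    constructor
    · intro h a
      rw [← T_spec c (hA a.2)]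
      exact h a a.2
    · intro h a ha
      rw [T_spec c (hA ha)]
      exact h ⟨a, ha⟩)
  have hA2 : Nat.card A ≤ 2 * Nat.card {a : A // f a = 1} := by
    have hcyc := isCyclic_aut F
    have hfin : Finite (F ≃+* F) := Finite.of_injective (fun σ : F ≃+* F => (σ : F → F)) DFunLike.coe_injective
    have := Fintype.ofFinite (F ≃+* F)
    have h3 := Subgroup.card_mul_index g.ker
    rw [Subgroup.index_ker] at h3
    have h4 : Nat.card g.range ≤ 2 := by
      have h5 := IsCyclic.card_pow_eq_one_le (α := F ≃+* F) (n := 2) (by norm_num)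
      have h6 : Nat.card g.range ≤ Nat.card {σ : F ≃+* F // σ ^ 2 = 1} := by
        refine Nat.card_le_card_of_injective (fun y => ⟨y.1, ?_⟩) ?_
        · obtain ⟨_, a, rfl⟩ := y
          rw [← map_pow, pow_two, show a * a = 1 from Subtype.ext (h2 a a.2), map_one]
        · intro y z e
          exact Subtype.ext (Subtype.mk.inj e)
      refine h6.trans ?_
      rw [Nat.card_eq_fintype_card, Fintype.card_subtype]
      exact h5
    have h5 : Nat.card g.ker = Nat.card {a : A // f a = 1} := rfl
    rw [h5] at h3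
    rw [← h3, mul_comm]
    exact Nat.mul_le_mul_right _ h4
  have key := core hq (A := ↥A) (fun a x => T c (a : X) x) f (fun a x y => T_add c (hA a.2) x y)
    (fun a k x => T_smul c (hA a.2) (hf' a) k x) (fun a b x => T_mul c (hA a.2) (hA b.2) x) (fun x => T_one c x)
    (fun a h => Subtype.ext (hf a a.2 fun v => by rw [T_spec c (hA a.2)]; exact h _))
    (fun a b => Subtype.ext (hc a a.2 b b.2)) (fun a => Subtype.ext (h2 a a.2)) hA2 Fx hFx
  rw [← hidx, mul_comm] at key
  exact Nat.le_of_mul_le_mul_left key Nat.card_pos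

/-- a semilinear map is not a transvection over `F₂` -/
theorem semi_index_ne_two (hV : ∀ v w : V, v * w = w * v) (hq : ∃ k, Fintype.card F = 2 ^ k) (hq4 : 4 ≤ Fintype.card F)
    (c : Co V F L) {x : X} (hx : x ∈ normalizer (L : Set X)) (C : Subgroup V) (hC : ∀ v, v ∈ C ↔ c.m (x • v) = c.m v) :
    C.index ≠ 2 := by
  intro h2
  obtain ⟨σ, hσ⟩ := c.exists_semi hx
  let Fx : AddSubgroup (Fin 2 → F) :=
    { carrier := {y | T c x y = y}
      zero_mem' := by
        have h3 := T_add c hx 0 0
        rw [add_zero] at h3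
        show T c x 0 = 0
        simpa using h3
      add_mem' := by
        intro y z hy hz
        show T c x (y + z) = y + z
        rw [T_add c hx, hy, hz]
      neg_mem' := by
        intro y hy
        show T c x (-y) = -y
        have h3 := T_add c hx y (-y)
        rw [add_neg_cancel, hy] at h3
        have h4 := T_add c hx 0 0
        rw [add_zero] at h4
        have h5 : T c x 0 = 0 := by simpa using h4
        rw [h5] at h3
        exact (neg_eq_of_add_eq_zero_right h3.symm).symm }
  have hFx : ∀ y, y ∈ Fx ↔ T c x y = y := fun y => Iff.rfl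
  have hidx := index_eq c Fx C (fun v => by rw [hC, hFx, T_spec c hx])
  rw [h2] at hidx
  exact core_index hq hq4 (T c x) σ (fun a b => T_add c hx a b) (fun k a => T_smul c hx hσ k a) Fx hFx hidx

end

end Cfsg.Agent.H258.SemiCard
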